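import Mathlib
import Groth.Prelude.Def_FlatCA
import Groth.Agent.Lib.Helper7.FlatAtBC.Main

set_option linter.style.haveILetI false
set_option linter.unusedVariables false
set_option linter.unusedSectionVars false
set_option autoImplicit false
set_option backward.isDefEq.respectTransparency.types false
set_option synthInstance.maxHeartbeats 400000
set_option maxHeartbeats 1600000

universe u

/-! helper7: flatness over a base ring of localizations of modules, along a flat or an integral
change of the acting ring. -/

open TensorProduct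

namespace Groth.Agent.Helper7.FlatACP

section Assoc

variable {R S B : Type u} [CommRing R] [CommRing S] [CommRing B] [Algebra R S] [Algebra S B]
  [Algebra R B] [IsScalarTower R S B]
  (P : Type u) [AddCommGroup P] [Module S P] [Module R P] [Module B P] [IsScalarTower R S P]
  [IsScalarTower S B P] [IsScalarTower R B P]
  (M : Type u) [AddCommGroup M] [Module S M] [Module R M] [IsScalarTower R S M]
  {K L : Type u} [AddCommGroup K] [Module R K] [AddCommGroup L] [Module R L] (f : K →ₗ[R] L)

theorem assoc_comm (x : (P ⊗[S] M) ⊗[R] K) :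
    (AlgebraTensorModule.assoc R S B P M L) ((f.lTensor (P ⊗[S] M)) x) =
      (LinearMap.lTensor P (AlgebraTensorModule.lTensor S M f))
        ((AlgebraTensorModule.assoc R S B P M K) x) := by
  induction x using TensorProduct.induction_on with
  | zero => simp
  | tmul y k =>
    induction y using TensorProduct.induction_on with
    | zero => simp
    | tmul p m => simp
    | add a b ha hb => simp only [TensorProduct.add_tmul, map_add, ha, hb]
  | add a b ha hb => simp only [map_add, ha, hb]

end Assoc

section FlatTensor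

variable {R S : Type u} [CommRing R] [CommRing S] [Algebra R S]
  (P : Type u) [AddCommGroup P] [Module S P] [Module R P] [IsScalarTower R S P]
  (M : Type u) [AddCommGroup M] [Module S M] [Module R M] [IsScalarTower R S M]

/-- if `P` is flat over `S` and the `S`-module `M` is flat over `R`, then `P ⊗[S] M` is flat over `R`. -/
theorem flat_tensor [Module.Flat S P] [Module.Flat R M] : Module.Flat R (P ⊗[S] M) := by
  rw [Module.Flat.iff_lTensor_preserves_injective_linearMap]
  intro K L _ _ _ _ f hf
  have h1 : Function.Injective (AlgebraTensorModule.lTensor S M f) := by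
    rw [AlgebraTensorModule.coe_lTensor]
    exact Module.Flat.lTensor_preserves_injective_linearMap f hf
  have h2 : Function.Injective (LinearMap.lTensor P (AlgebraTensorModule.lTensor S M f)) :=
    Module.Flat.lTensor_preserves_injective_linearMap _ h1
  intro x y hxy
  apply (AlgebraTensorModule.assoc R S S P M K).injective
  apply h2
  rw [← assoc_comm (B := S) P M f x, ← assoc_comm (B := S) P M f y, hxy]

end FlatTensor

section Core

variable {A' B' C' : Type u} [CommRing A'] [CommRing B'] [CommRing C'] [Algebra A' B']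
  [Algebra A' C'] [Algebra B' C'] [IsScalarTower A' B' C']
  (M' : Type u) [AddCommGroup M'] [Module B' M'] [Module A' M'] [IsScalarTower A' B' M']
  (q' : Ideal C') [q'.IsPrime] (q : Ideal B') [q.IsPrime]
  (hq : q'.comap (algebraMap B' C') = q)

include hq in
theorem exists_loc :
    ∃ g : C' ⊗[B'] (LocalizedModule q.primeCompl M') →ₗ[C']
        LocalizedModule q'.primeCompl (C' ⊗[B'] M'),
      IsLocalizedModule q'.primeCompl g := by
  let Z := LocalizedModule q.primeCompl M'
  let W := C' ⊗[B'] M'
  let T₀ : Submonoid C' := Algebra.algebraMapSubmonoid C' q.primeCompl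
  let f₁ : W →ₗ[C'] C' ⊗[B'] Z :=
    AlgebraTensorModule.lTensor C' C' (LocalizedModule.mkLinearMap q.primeCompl M')
  haveI : IsLocalizedModule q.primeCompl (f₁.restrictScalars B') := by
    have h3 : f₁.restrictScalars B' =
        (LocalizedModule.mkLinearMap q.primeCompl M').lTensor C' := rfl
    rw [h3]
    exact FlatAtBC.isLocalizedModule_lTensor q.primeCompl
      (LocalizedModule.mkLinearMap q.primeCompl M') C'
  haveI : IsLocalizedModule T₀ f₁ := IsLocalizedModule.of_restrictScalars q.primeCompl f₁
  have hle : T₀ ≤ q'.primeCompl := by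
    rintro _ ⟨x, hx, rfl⟩
    intro hmem
    have hxq : x ∈ q := by
      rw [← hq]; exact hmem
    exact hx hxq
  exact ⟨IsLocalizedModule.liftOfLE T₀ q'.primeCompl hle f₁
    (LocalizedModule.mkLinearMap q'.primeCompl W), inferInstance⟩

include hq in
theorem flatAt_tensor_of_flatAt [Module.Flat B' C']
    (h : Module.Flat A' (LocalizedModule q.primeCompl M')) :
    Module.Flat A' (LocalizedModule q'.primeCompl (C' ⊗[B'] M')) := by
  obtain ⟨g, hg⟩ := exists_loc M' q' q hq
  haveI := hg
  haveI : Module.Flat A' (C' ⊗[B'] (LocalizedModule q.primeCompl M')) :=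
    flat_tensor (R := A') (S := B') C' (LocalizedModule q.primeCompl M')
  exact FlatAtBC.flat_of_isLocalizedModule (A := A') (B := C')
    (N := C' ⊗[B'] (LocalizedModule q.primeCompl M'))
    (N' := LocalizedModule q'.primeCompl (C' ⊗[B'] M')) q'.primeCompl g

omit [IsScalarTower A' B' C'] in
theorem eq_zero_of_smul_eq_zero (K : Type u) [AddCommGroup K] [Module A' K] (b : B') (hb : b ∉ q)
    (v : (LocalizedModule q.primeCompl M') ⊗[A'] K) (h : b • v = 0) : v = 0 := by
  have hu := IsLocalizedModule.map_units (LocalizedModule.mkLinearMap q.primeCompl M')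
    ⟨b, (show b ∈ q.primeCompl from hb)⟩
  obtain ⟨u, hu'⟩ := hu
  let E : (LocalizedModule q.primeCompl M') ⊗[A'] K →ₗ[B']
      (LocalizedModule q.primeCompl M') ⊗[A'] K :=
    AlgebraTensorModule.rTensor A' K (↑u⁻¹ : Module.End B' (LocalizedModule q.primeCompl M'))
  have hE : ∀ w, E (b • w) = w := by
    intro w
    induction w using TensorProduct.induction_on with
    | zero => simp
    | tmul z k =>
      rw [TensorProduct.smul_tmul', AlgebraTensorModule.rTensor_tmul]
      congr 1
      have h1 : (↑u : Module.End B' (LocalizedModule q.primeCompl M')) z = b • z := by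
        rw [hu']; rfl
      rw [← h1]
      show ((↑u⁻¹ : Module.End B' (LocalizedModule q.primeCompl M')) * ↑u) z = z
      rw [Units.inv_mul]; rfl
    | add a b' ha hb' => rw [smul_add, map_add, ha, hb']
  rw [← hE v, h, map_zero]

include hq in
theorem flatAt_of_flatAt_tensor [Module.Flat B' C']
    (h : Module.Flat A' (LocalizedModule q'.primeCompl (C' ⊗[B'] M'))) :
    Module.Flat A' (LocalizedModule q.primeCompl M') := by
  obtain ⟨g, hg⟩ := exists_loc M' q' q hq
  haveI := hg
  rw [Module.Flat.iff_lTensor_preserves_injective_linearMap]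
  intro K L _ _ _ _ f hf
  rw [injective_iff_map_eq_zero]
  intro x hx
  let Z := LocalizedModule q.primeCompl M'
  let Y := LocalizedModule q'.primeCompl (C' ⊗[B'] M')
  let v : (C' ⊗[B'] Z) ⊗[A'] K :=
    (AlgebraTensorModule.assoc A' B' C' C' Z K).symm ((1 : C') ⊗ₜ[B'] x)
  have hav : (AlgebraTensorModule.assoc A' B' C' C' Z K) v = (1 : C') ⊗ₜ[B'] x :=
    LinearEquiv.apply_symm_apply _ _
  have hv : (f.lTensor (C' ⊗[B'] Z)) v = 0 := by
    apply (AlgebraTensorModule.assoc A' B' C' C' Z L).injective
    rw [assoc_comm (B := C') C' Z f v, map_zero, hav, LinearMap.lTensor_tmul]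
    have : (AlgebraTensorModule.lTensor B' Z f) x = 0 := hx
    rw [this, TensorProduct.tmul_zero]
  let gK : (C' ⊗[B'] Z) ⊗[A'] K →ₗ[C'] Y ⊗[A'] K := AlgebraTensorModule.rTensor A' K g
  let gL : (C' ⊗[B'] Z) ⊗[A'] L →ₗ[C'] Y ⊗[A'] L := AlgebraTensorModule.rTensor A' L g
  haveI : IsLocalizedModule q'.primeCompl gK := inferInstance
  have hnat : (f.lTensor Y) (gK v) = gL ((f.lTensor (C' ⊗[B'] Z)) v) := by
    show (f.lTensor Y) (((g.restrictScalars A').rTensor K) v) =
      ((g.restrictScalars A').rTensor L) ((f.lTensor (C' ⊗[B'] Z)) v)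
    rw [← LinearMap.comp_apply, ← LinearMap.comp_apply, LinearMap.lTensor_comp_rTensor,
      LinearMap.rTensor_comp_lTensor]
  have hGK : gK v = 0 := by
    have hinj : Function.Injective (f.lTensor Y) :=
      Module.Flat.lTensor_preserves_injective_linearMap f hf
    apply hinj
    rw [hnat, hv, map_zero, map_zero]
  obtain ⟨c, hc⟩ := (IsLocalizedModule.eq_zero_iff q'.primeCompl gK).mp hGK
  have hcx : ((c : C') ⊗ₜ[B'] x : C' ⊗[B'] (Z ⊗[A'] K)) = 0 := by
    have h5 := congrArg (AlgebraTensorModule.assoc A' B' C' C' Z K) hc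
    rw [Submonoid.smul_def, map_smul, map_zero, hav, TensorProduct.smul_tmul', smul_eq_mul,
      mul_one] at h5
    exact h5
  by_contra hx0
  let I : Ideal B' := LinearMap.ker (LinearMap.toSpanSingleton B' (Z ⊗[A'] K) x)
  have hIq : I ≤ q := by
    intro b hb
    by_contra hbq
    have hbx : b • x = 0 := by
      have := LinearMap.mem_ker.mp hb
      rwa [LinearMap.toSpanSingleton_apply] at this
    exact hx0 (eq_zero_of_smul_eq_zero M' q K b hbq x hbx)
  let ι : (B' ⧸ I) →ₗ[B'] (Z ⊗[A'] K) :=
    Submodule.liftQ I (LinearMap.toSpanSingleton B' (Z ⊗[A'] K) x) le_rfl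
  have hιinj : Function.Injective ι :=
    LinearMap.ker_eq_bot.mp (Submodule.ker_liftQ_eq_bot _ _ _ le_rfl)
  have h7 : Function.Injective (ι.lTensor C') :=
    Module.Flat.lTensor_preserves_injective_linearMap ι hιinj
  have hι1 : ι (Ideal.Quotient.mk I (1 : B')) = x := by
    show (LinearMap.toSpanSingleton B' (Z ⊗[A'] K) x) 1 = x
    rw [LinearMap.toSpanSingleton_apply, one_smul]
  have h8 : ((c : C') ⊗ₜ[B'] (Ideal.Quotient.mk I (1 : B')) : C' ⊗[B'] (B' ⧸ I)) = 0 := by
    apply h7
    rw [LinearMap.lTensor_tmul, map_zero, hι1]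
    exact hcx
  have h9 := congrArg (TensorProduct.tensorQuotEquivQuotSMul C' I) h8
  rw [map_zero, TensorProduct.tensorQuotEquivQuotSMul_tmul_mk, one_smul,
    Submodule.Quotient.mk_eq_zero] at h9
  have h12 : (I • (⊤ : Submodule B' C')) ≤ q'.restrictScalars B' := by
    rw [Submodule.smul_le]
    intro r hr n _
    show r • n ∈ q'
    rw [Algebra.smul_def]
    apply Ideal.mul_mem_right
    have hrq : r ∈ q := hIq hr
    rw [← hq] at hrq
    exact hrq
  exact c.2 (h12 h9)

end Core

end Groth.Agent.Helper7.FlatACP
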