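import Mathlib
import Groth.Prelude.Def_FlatCA
import Groth.Agent.Lib.Helper7.FlatACP.Core

set_option linter.style.haveILetI false
set_option linter.unusedVariables false
set_option linter.unusedSectionVars false
set_option autoImplicit false
set_option backward.isDefEq.respectTransparency.types false
set_option synthInstance.maxHeartbeats 400000
set_option maxHeartbeats 1600000

universe u

/-! helper7: flatness above the closed points is insensitive to a finite local extension of the
acting local ring. -/

open TensorProduct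

namespace Groth.Agent.Helper7.FlatACP

section CoreInt

variable {A' B' C' : Type u} [CommRing A'] [CommRing B'] [CommRing C'] [Algebra A' B']
  [Algebra A' C'] [Algebra B' C'] [IsScalarTower A' B' C']
  (N' : Type u) [AddCommGroup N'] [Module C' N'] [Module A' N'] [IsScalarTower A' C' N']
  (q : Ideal B') [q.IsPrime]

omit [IsScalarTower A' B' C'] in
theorem flatAt_of_flat_loc (q' : Ideal C') [q'.IsPrime] (hq : q'.comap (algebraMap B' C') = q)
    (h : Module.Flat A' (LocalizedModule (Algebra.algebraMapSubmonoid C' q.primeCompl) N')) :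
    Module.Flat A' (LocalizedModule q'.primeCompl N') := by
  have hle : Algebra.algebraMapSubmonoid C' q.primeCompl ≤ q'.primeCompl := by
    rintro _ ⟨x, hx, rfl⟩
    intro hmem
    have hxq : x ∈ q := by
      rw [← hq]; exact hmem
    exact hx hxq
  let g := LocalizedModule.liftOfLE (M := N') (Algebra.algebraMapSubmonoid C' q.primeCompl)
    q'.primeCompl hle
  exact FlatAtBC.flat_of_isLocalizedModule (A := A') (B := C')
    (N := LocalizedModule (Algebra.algebraMapSubmonoid C' q.primeCompl) N')
    (N' := LocalizedModule q'.primeCompl N') q'.primeCompl g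

omit [IsScalarTower A' B' C'] in
theorem flat_loc_of_flatAt [Algebra.IsIntegral B' C']
    (h : ∀ (q' : Ideal C') [q'.IsPrime], q'.comap (algebraMap B' C') = q →
      Module.Flat A' (LocalizedModule q'.primeCompl N')) :
    Module.Flat A' (LocalizedModule (Algebra.algebraMapSubmonoid C' q.primeCompl) N') := by
  rw [Module.Flat.iff_lTensor_preserves_injective_linearMap]
  intro K L _ _ _ _ f hf
  rw [injective_iff_map_eq_zero]
  intro x hx
  let T₀ : Submonoid C' := Algebra.algebraMapSubmonoid C' q.primeCompl
  let Z := LocalizedModule T₀ N'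
  let mk0 : N' →ₗ[C'] Z := LocalizedModule.mkLinearMap T₀ N'
  let mkK : N' ⊗[A'] K →ₗ[C'] Z ⊗[A'] K := AlgebraTensorModule.rTensor A' K mk0
  let mkL : N' ⊗[A'] L →ₗ[C'] Z ⊗[A'] L := AlgebraTensorModule.rTensor A' L mk0
  haveI : IsLocalizedModule T₀ mkK := inferInstance
  haveI : IsLocalizedModule T₀ mkL := inferInstance
  obtain ⟨⟨y, t⟩, hy⟩ := IsLocalizedModule.surj T₀ mkK x
  have hy' : (t : C') • x = mkK y := hy
  have hnatZ : ∀ w, (f.lTensor Z) (mkK w) = mkL ((f.lTensor N') w) := by
    intro w
    show (f.lTensor Z) (((mk0.restrictScalars A').rTensor K) w) =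
      ((mk0.restrictScalars A').rTensor L) ((f.lTensor N') w)
    rw [← LinearMap.comp_apply, ← LinearMap.comp_apply, LinearMap.lTensor_comp_rTensor,
      LinearMap.rTensor_comp_lTensor]
  have h1 : mkL ((f.lTensor N') y) = 0 := by
    rw [← hnatZ, ← hy']
    show (AlgebraTensorModule.lTensor C' Z f) ((t : C') • x) = 0
    rw [map_smul]
    have : (AlgebraTensorModule.lTensor C' Z f) x = 0 := hx
    rw [this, smul_zero]
  obtain ⟨t', ht'⟩ := (IsLocalizedModule.eq_zero_iff T₀ mkL).mp h1
  have ht'c : (t' : C') • (f.lTensor N') y = 0 := ht'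
  let y₁ : N' ⊗[A'] K := (t' : C') • y
  have hy₁ : (f.lTensor N') y₁ = 0 := by
    show (AlgebraTensorModule.lTensor C' N' f) ((t' : C') • y) = 0
    rw [map_smul]
    exact ht'c
  have hkill : ∃ t'' : T₀, (t'' : C') • y₁ = 0 := by
    by_contra hno
    push Not at hno
    let J : Ideal C' := LinearMap.ker (LinearMap.toSpanSingleton C' (N' ⊗[A'] K) y₁)
    have hJq : J.comap (algebraMap B' C') ≤ q := by
      intro b hb
      by_contra hbq
      have hb' : (algebraMap B' C' b) • y₁ = 0 := by
        have := LinearMap.mem_ker.mp (Ideal.mem_comap.mp hb)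
        rwa [LinearMap.toSpanSingleton_apply] at this
      exact hno ⟨algebraMap B' C' b, ⟨b, hbq, rfl⟩⟩ hb'
    obtain ⟨q', hJq', hq'p, hq'q⟩ := Ideal.exists_ideal_over_prime_of_isIntegral q J hJq
    haveI := hq'p
    haveI hfl := h q' hq'q
    let Y := LocalizedModule q'.primeCompl N'
    let mk1 : N' →ₗ[C'] Y := LocalizedModule.mkLinearMap q'.primeCompl N'
    let mk1K : N' ⊗[A'] K →ₗ[C'] Y ⊗[A'] K := AlgebraTensorModule.rTensor A' K mk1
    let mk1L : N' ⊗[A'] L →ₗ[C'] Y ⊗[A'] L := AlgebraTensorModule.rTensor A' L mk1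
    haveI : IsLocalizedModule q'.primeCompl mk1K := inferInstance
    have hnatY : (f.lTensor Y) (mk1K y₁) = mk1L ((f.lTensor N') y₁) := by
      show (f.lTensor Y) (((mk1.restrictScalars A').rTensor K) y₁) =
        ((mk1.restrictScalars A').rTensor L) ((f.lTensor N') y₁)
      rw [← LinearMap.comp_apply, ← LinearMap.comp_apply, LinearMap.lTensor_comp_rTensor,
        LinearMap.rTensor_comp_lTensor]
    have h2 : mk1K y₁ = 0 := by
      have hinj : Function.Injective (f.lTensor Y) :=
        Module.Flat.lTensor_preserves_injective_linearMap f hf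
      apply hinj
      rw [hnatY, hy₁, map_zero, map_zero]
    obtain ⟨s, hs⟩ := (IsLocalizedModule.eq_zero_iff q'.primeCompl mk1K).mp h2
    have hsc : (s : C') • y₁ = 0 := hs
    have hsJ : (s : C') ∈ J := by
      rw [LinearMap.mem_ker, LinearMap.toSpanSingleton_apply]
      exact hsc
    exact s.2 (hJq' hsJ)
  obtain ⟨t'', ht''⟩ := hkill
  have h3 : ((t'' : C') * ((t' : C') * (t : C'))) • x = 0 := by
    rw [mul_smul, mul_smul, hy', ← map_smul, ← map_smul]
    have : (t'' : C') • ((t' : C') • y) = 0 := ht''
    rw [this, map_zero]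
  have h4 := IsLocalizedModule.smul_injective mkK (t'' * (t' * t))
  apply h4
  show ((t'' * (t' * t) : T₀) : C') • x = ((t'' * (t' * t) : T₀) : C') • (0 : Z ⊗[A'] K)
  rw [smul_zero, Submonoid.coe_mul, Submonoid.coe_mul]
  exact h3

end CoreInt

section Main

variable {B C A' B' C' : Type u} [CommRing B] [IsLocalRing B] [CommRing C] [IsLocalRing C]
  [Algebra B C] [IsLocalHom (algebraMap B C)] [Module.Finite B C]
  [CommRing A'] [IsLocalRing A'] [CommRing B'] [CommRing C']
  [Algebra A' B'] [Algebra A' C'] [Algebra B' C'] [IsScalarTower A' B' C']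
  [Algebra B B'] [Algebra C C'] [Algebra B C'] [IsScalarTower B C C'] [IsScalarTower B B' C']
  (hpush : Algebra.IsPushout B C B' C')
  (M' : Type u) [AddCommGroup M'] [Module B' M'] [Module A' M'] [IsScalarTower A' B' M']
  (N' : Type u) [AddCommGroup N'] [Module C' N'] [Module A' N'] [IsScalarTower A' C' N']
  [Module B' N'] [IsScalarTower B' C' N'] [IsScalarTower A' B' N']
  (θ : M' ≃ₗ[B'] N')

include hpush θ in
theorem main_fin :
    FlatCA.FlatAboveClosedPoints B A' B' M' ↔ FlatCA.FlatAboveClosedPoints C A' C' N' := by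
  haveI := hpush
  haveI hint : Algebra.IsIntegral B' C' := Algebra.IsPushout.isIntegral B B' C C'
  have key1 : ∀ (q : Ideal B') [q.IsPrime],
      Module.Flat A' (LocalizedModule q.primeCompl M') ↔
        Module.Flat A' (LocalizedModule (Algebra.algebraMapSubmonoid C' q.primeCompl) N') := by
    intro q _
    haveI : IsLocalizedModule q.primeCompl
        ((LocalizedModule.mkLinearMap (Algebra.algebraMapSubmonoid C' q.primeCompl) N').restrictScalars
          B') :=
      IsLocalizedModule.restrictScalars q.primeCompl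
        (LocalizedModule.mkLinearMap (Algebra.algebraMapSubmonoid C' q.primeCompl) N')
    let E := IsLocalizedModule.linearEquiv q.primeCompl
      (LocalizedModule.mkLinearMap q.primeCompl M')
      (((LocalizedModule.mkLinearMap (Algebra.algebraMapSubmonoid C' q.primeCompl)
        N').restrictScalars B') ∘ₗ θ.toLinearMap)
    exact Module.Flat.equiv_iff (E.restrictScalars A')
  have hmB : ∀ (q : Ideal B') [q.IsPrime],
      (IsLocalRing.maximalIdeal B).map (algebraMap B B') ≤ q →
      q.comap (algebraMap B B') = IsLocalRing.maximalIdeal B := by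
    intro q _ hq
    have hle : IsLocalRing.maximalIdeal B ≤ q.comap (algebraMap B B') := by
      rw [← Ideal.map_le_iff_le_comap]
      exact hq
    have hne : q.comap (algebraMap B B') ≠ ⊤ :=
      (Ideal.comap_isPrime (algebraMap B B') q).ne_top
    exact ((IsLocalRing.maximalIdeal.isMaximal B).eq_of_le hne hle).symm
  constructor
  · intro hM q' _ hq'
    let q : Ideal B' := q'.comap (algebraMap B' C')
    haveI : q.IsPrime := Ideal.comap_isPrime _ _
    have hqV : (IsLocalRing.maximalIdeal A').map (algebraMap A' B') ⊔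
        (IsLocalRing.maximalIdeal B).map (algebraMap B B') ≤ q := by
      refine sup_le ?_ ?_
      · rw [Ideal.map_le_iff_le_comap]
        intro a ha
        show algebraMap B' C' (algebraMap A' B' a) ∈ q'
        rw [← IsScalarTower.algebraMap_apply A' B' C']
        exact hq' (Ideal.mem_sup_left (Ideal.mem_map_of_mem _ ha))
      · rw [Ideal.map_le_iff_le_comap]
        intro b hb
        show algebraMap B' C' (algebraMap B B' b) ∈ q'
        rw [← IsScalarTower.algebraMap_apply B B' C', IsScalarTower.algebraMap_apply B C C']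
        apply hq'
        apply Ideal.mem_sup_right
        apply Ideal.mem_map_of_mem
        rw [IsLocalRing.mem_maximalIdeal, mem_nonunits_iff] at hb ⊢
        exact fun h => hb ((isUnit_map_iff (algebraMap B C) b).mp h)
    have h1 : Module.Flat A' (LocalizedModule q.primeCompl M') := hM q hqV
    exact flatAt_of_flat_loc N' q q' rfl ((key1 q).mp h1)
  · intro hN q _ hq
    show Module.Flat A' (LocalizedModule q.primeCompl M')
    rw [key1 q]
    apply flat_loc_of_flatAt N' q
    intro q' _ hq'q
    apply hN q'
    refine sup_le ?_ ?_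
    · rw [Ideal.map_le_iff_le_comap]
      intro a ha
      have h3 : algebraMap A' B' a ∈ q :=
        hq (Ideal.mem_sup_left (Ideal.mem_map_of_mem _ ha))
      rw [← hq'q] at h3
      show algebraMap A' C' a ∈ q'
      rw [IsScalarTower.algebraMap_apply A' B' C']
      exact h3
    · rw [Ideal.map_le_iff_le_comap]
      let pC : Ideal C := q'.comap (algebraMap C C')
      haveI : pC.IsPrime := Ideal.comap_isPrime _ _
      have h5 : pC.comap (algebraMap B C) = IsLocalRing.maximalIdeal B := by
        rw [← hmB q (le_sup_right.trans hq), ← hq'q]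
        ext b
        show algebraMap C C' (algebraMap B C b) ∈ q' ↔ algebraMap B' C' (algebraMap B B' b) ∈ q'
        rw [← IsScalarTower.algebraMap_apply B C C', ← IsScalarTower.algebraMap_apply B B' C']
      have hmax : pC.IsMaximal := by
        apply Ideal.isMaximal_of_isIntegral_of_isMaximal_comap (R := B) pC
        rw [h5]
        exact IsLocalRing.maximalIdeal.isMaximal B
      rw [← IsLocalRing.eq_maximalIdeal hmax]

end Main

/-- the statement in the form of the milestone. -/
theorem mainFin {A B C : Type u} [CommRing A] [IsLocalRing A] [CommRing B] [IsLocalRing B]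
    [CommRing C] [IsLocalRing C]
    [Algebra A B] [IsLocalHom (algebraMap A B)] [Algebra B C] [IsLocalHom (algebraMap B C)]
    [Algebra A C] [IsScalarTower A B C] [Module.Finite B C]
    (N : Type u) [AddCommGroup N] [Module C N] [Module B N] [IsScalarTower B C N]
    (A' : Type u) [CommRing A'] [IsLocalRing A'] [Algebra A A'] [IsLocalHom (algebraMap A A')]
    (B' M' : Type u) [CommRing B'] [Algebra B B'] [Algebra A' B'] [Algebra A B']
    [IsScalarTower A B B'] [IsScalarTower A A' B']
    [Algebra.IsPushout A B A' B']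
    [AddCommGroup M'] [Module B' M'] [Module B M'] [IsScalarTower B B' M'] [Module A' M']
    [IsScalarTower A' B' M']
    (fB : N →ₗ[B] M') (hfB : IsBaseChange B' fB)
    (C' N' : Type u) [CommRing C'] [Algebra C C'] [Algebra A' C'] [Algebra A C']
    [IsScalarTower A C C'] [IsScalarTower A A' C']
    [Algebra.IsPushout A C A' C']
    [AddCommGroup N'] [Module C' N'] [Module C N'] [IsScalarTower C C' N'] [Module A' N']
    [IsScalarTower A' C' N']
    (fC : N →ₗ[C] N') (hfC : IsBaseChange C' fC) :
    FlatCA.FlatAboveClosedPoints B A' B' M' ↔ FlatCA.FlatAboveClosedPoints C A' C' N' := by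
  let fBC' : B →ₐ[A] C' := (IsScalarTower.toAlgHom A C C').comp (IsScalarTower.toAlgHom A B C)
  let gA'C' : A' →ₐ[A] C' := IsScalarTower.toAlgHom A A' C'
  let φ : B' →ₐ[A] C' := Algebra.pushoutDesc B' fBC' gA'C' (fun _ _ => mul_comm _ _)
  letI algB'C' : Algebra B' C' := φ.toRingHom.toAlgebra
  letI algBC' : Algebra B C' := ((algebraMap C C').comp (algebraMap B C)).toAlgebra
  haveI t1 : IsScalarTower B C C' := IsScalarTower.of_algebraMap_eq (fun x => rfl)
  haveI t2 : IsScalarTower B B' C' := IsScalarTower.of_algebraMap_eq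
    (fun x => (Algebra.pushoutDesc_left B' fBC' gA'C' _ x).symm)
  haveI t3 : IsScalarTower A' B' C' := IsScalarTower.of_algebraMap_eq
    (fun x => (Algebra.pushoutDesc_right B' fBC' gA'C' _ x).symm)
  haveI t4 : IsScalarTower A B' C' := IsScalarTower.of_algebraMap_eq
    (fun x => (φ.commutes x).symm)
  have hpush : Algebra.IsPushout B C B' C' :=
    (Algebra.IsPushout.comp_iff A B A' (S' := B') (T := C) (T' := C')).mp inferInstance
  letI modB'N' : Module B' N' := Module.compHom N' (algebraMap B' C')
  haveI t6 : IsScalarTower B' C' N' := ⟨fun b c n => by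
    show (b • c) • n = (algebraMap B' C' b) • (c • n)
    rw [Algebra.smul_def, mul_smul]⟩
  haveI t7 : IsScalarTower A' B' N' := ⟨fun a b n => by
    show (algebraMap B' C' (a • b)) • n = a • ((algebraMap B' C' b) • n)
    rw [Algebra.smul_def, map_mul, ← IsScalarTower.algebraMap_apply A' B' C', mul_smul,
      algebraMap_smul]⟩
  haveI hpush' : Algebra.IsPushout B B' C C' := hpush.symm
  let θ : M' ≃ₗ[B'] N' :=
    hfB.equiv.symm ≪≫ₗ (Algebra.IsPushout.cancelBaseChange B B' C C' N).symm ≪≫ₗ
      (hfC.equiv.restrictScalars B')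
  exact main_fin hpush M' N' θ

end Groth.Agent.Helper7.FlatACP
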