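import Mathlib
import Groth.Prelude.Def_FlatCA
import Groth.Agent.Lib.Helper7.FlatACP.Core

set_option linter.style.haveILetI false
set_option linter.unusedVariables false
set_option linter.unusedSectionVars false
set_option autoImplicit false
set_option backward.isDefEq.respectTransparency.types false
set_option synthInstance.maxHeartbeats 400000
set_option maxHeartbeats 1600000

universe u

/-! helper7: flatness above the closed points is insensitive to a flat local extension of the
acting local ring. -/

open TensorProduct AlgebraicGeometry CategoryTheory Limits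

namespace Groth.Agent.Helper7.FlatACP

/-- A pair of primes with the same contraction lifts to the tensor product
(same statement and proof as Lead `GUnib20.exists_prime_tensor`, restated here to keep imports light). -/
theorem exists_prime_tensor (R S T : Type u) [CommRing R] [CommRing S] [CommRing T] [Algebra R S]
    [Algebra R T] (P : Ideal S) [P.IsPrime] (Q : Ideal T) [Q.IsPrime]
    (h : P.comap (algebraMap R S) = Q.comap (algebraMap R T)) :
    ∃ W : Ideal (S ⊗[R] T), W.IsPrime ∧
      W.comap (Algebra.TensorProduct.includeLeft : S →ₐ[R] S ⊗[R] T).toRingHom = P ∧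
      W.comap (Algebra.TensorProduct.includeRight : T →ₐ[R] S ⊗[R] T).toRingHom = Q := by
  let x : Spec (CommRingCat.of S) := ⟨P, inferInstance⟩
  let y : Spec (CommRingCat.of T) := ⟨Q, inferInstance⟩
  have hxy : (Spec.map (CommRingCat.ofHom (algebraMap R S))) x =
      (Spec.map (CommRingCat.ofHom (algebraMap R T))) y := by
    apply PrimeSpectrum.ext
    exact h
  obtain ⟨z, hz1, hz2⟩ := Scheme.Pullback.exists_preimage_pullback x y hxy
  let w := (pullbackSpecIso R S T).hom z
  refine ⟨w.asIdeal, w.isPrime, ?_, ?_⟩
  · have h1 : (Spec.map (CommRingCat.ofHom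
        (Algebra.TensorProduct.includeLeft : S →ₐ[R] S ⊗[R] T).toRingHom)) w = x := by
      have e1 : Spec.map (CommRingCat.ofHom
          (Algebra.TensorProduct.includeLeft : S →ₐ[R] S ⊗[R] T).toRingHom) =
          (pullbackSpecIso R S T).inv ≫ pullback.fst _ _ := (pullbackSpecIso_inv_fst R S T).symm
      rw [e1, Scheme.Hom.comp_apply, ← hz1]
      congr 1
      show (pullbackSpecIso R S T).inv ((pullbackSpecIso R S T).hom z) = z
      rw [← Scheme.Hom.comp_apply, Iso.hom_inv_id]
      rfl
    exact congrArg PrimeSpectrum.asIdeal h1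
  · have h1 : (Spec.map (CommRingCat.ofHom
        (Algebra.TensorProduct.includeRight : T →ₐ[R] S ⊗[R] T).toRingHom)) w = y := by
      have e1 : Spec.map (CommRingCat.ofHom
          (Algebra.TensorProduct.includeRight : T →ₐ[R] S ⊗[R] T).toRingHom) =
          (pullbackSpecIso R S T).inv ≫ pullback.snd _ _ := (pullbackSpecIso_inv_snd R S T).symm
      rw [e1, Scheme.Hom.comp_apply, ← hz2]
      congr 1
      show (pullbackSpecIso R S T).inv ((pullbackSpecIso R S T).hom z) = z
      rw [← Scheme.Hom.comp_apply, Iso.hom_inv_id]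
      rfl
    exact congrArg PrimeSpectrum.asIdeal h1

theorem nonempty_equiv_tensor {B C B' C' : Type u} [CommRing B] [CommRing C] [CommRing B']
    [CommRing C'] [Algebra B C] [Algebra B B'] [Algebra C C'] [Algebra B' C'] [Algebra B C']
    [IsScalarTower B C C'] [IsScalarTower B B' C']
    {M N M' N' : Type u} [AddCommGroup M] [Module B M] [AddCommGroup N] [Module C N] [Module B N]
    [IsScalarTower B C N]
    [AddCommGroup M'] [Module B' M'] [Module B M'] [IsScalarTower B B' M']
    [AddCommGroup N'] [Module C' N'] [Module C N'] [IsScalarTower C C' N'] [Module B N']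
    [IsScalarTower B C N'] [IsScalarTower B C' N']
    (g : M →ₗ[B] N) (hg : IsBaseChange C g) (fB : M →ₗ[B] M') (hfB : IsBaseChange B' fB)
    (fC : N →ₗ[C] N') (hfC : IsBaseChange C' fC) :
    Nonempty (N' ≃ₗ[C'] C' ⊗[B'] M') := by
  have h1 : IsBaseChange C' ((fC.restrictScalars B).comp g) := IsBaseChange.comp hg hfC
  have h2 : IsBaseChange C' (((TensorProduct.mk B' C' M' 1).restrictScalars B).comp fB) :=
    IsBaseChange.comp hfB (TensorProduct.isBaseChange B' M' C')
  exact ⟨h1.equiv.symm ≪≫ₗ h2.equiv⟩

section Main

variable {B C A' B' C' : Type u} [CommRing B] [IsLocalRing B] [CommRing C] [IsLocalRing C]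
  [Algebra B C] [IsLocalHom (algebraMap B C)] [Module.Flat B C]
  [CommRing A'] [IsLocalRing A'] [CommRing B'] [CommRing C']
  [Algebra A' B'] [Algebra A' C'] [Algebra B' C'] [IsScalarTower A' B' C']
  [Algebra B B'] [Algebra C C'] [Algebra B C'] [IsScalarTower B C C'] [IsScalarTower B B' C']
  (hpush : Algebra.IsPushout B C B' C')
  (M' : Type u) [AddCommGroup M'] [Module B' M'] [Module A' M'] [IsScalarTower A' B' M']
  (N' : Type u) [AddCommGroup N'] [Module C' N'] [Module A' N'] [IsScalarTower A' C' N']
  (e : N' ≃ₗ[C'] C' ⊗[B'] M')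

include hpush e in
theorem main_flat :
    FlatCA.FlatAboveClosedPoints B A' B' M' ↔ FlatCA.FlatAboveClosedPoints C A' C' N' := by
  haveI := hpush
  haveI hflat : Module.Flat B' C' := by
    have h0 : Algebra.IsPushout B B' C C' := hpush.symm
    exact Module.Flat.isBaseChange B B' C C' h0.out
  have htr : ∀ (q' : Ideal C') [q'.IsPrime],
      Module.Flat A' (LocalizedModule q'.primeCompl N') ↔
        Module.Flat A' (LocalizedModule q'.primeCompl (C' ⊗[B'] M')) := by
    intro q' _
    let E := IsLocalizedModule.linearEquiv q'.primeCompl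
      (LocalizedModule.mkLinearMap q'.primeCompl N')
      ((LocalizedModule.mkLinearMap q'.primeCompl (C' ⊗[B'] M')) ∘ₗ e.toLinearMap)
    exact Module.Flat.equiv_iff (E.restrictScalars A')
  constructor
  · intro hM q' _ hq'
    let q : Ideal B' := q'.comap (algebraMap B' C')
    haveI : q.IsPrime := Ideal.comap_isPrime _ _
    have hqV : (IsLocalRing.maximalIdeal A').map (algebraMap A' B') ⊔
        (IsLocalRing.maximalIdeal B).map (algebraMap B B') ≤ q := by
      refine sup_le ?_ ?_
      · rw [Ideal.map_le_iff_le_comap]
        intro a ha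
        show algebraMap B' C' (algebraMap A' B' a) ∈ q'
        rw [← IsScalarTower.algebraMap_apply A' B' C']
        exact hq' (Ideal.mem_sup_left (Ideal.mem_map_of_mem _ ha))
      · rw [Ideal.map_le_iff_le_comap]
        intro b hb
        show algebraMap B' C' (algebraMap B B' b) ∈ q'
        rw [← IsScalarTower.algebraMap_apply B B' C', IsScalarTower.algebraMap_apply B C C']
        apply hq'
        apply Ideal.mem_sup_right
        apply Ideal.mem_map_of_mem
        rw [IsLocalRing.mem_maximalIdeal, mem_nonunits_iff] at hb ⊢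
        exact fun h => hb ((isUnit_map_iff (algebraMap B C) b).mp h)
    have h1 : Module.Flat A' (LocalizedModule q.primeCompl M') := hM q hqV
    exact (htr q').mpr (flatAt_tensor_of_flatAt M' q' q rfl h1)
  · intro hN q _ hq
    have hmB : (IsLocalRing.maximalIdeal C).comap (algebraMap B C) =
        q.comap (algebraMap B B') := by
      have h1 : (IsLocalRing.maximalIdeal C).comap (algebraMap B C) =
          IsLocalRing.maximalIdeal B := by
        ext x
        rw [Ideal.mem_comap, IsLocalRing.mem_maximalIdeal, IsLocalRing.mem_maximalIdeal,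
          mem_nonunits_iff, mem_nonunits_iff, isUnit_map_iff]
      have h2 : q.comap (algebraMap B B') = IsLocalRing.maximalIdeal B := by
        have hle : IsLocalRing.maximalIdeal B ≤ q.comap (algebraMap B B') := by
          rw [← Ideal.map_le_iff_le_comap]
          exact le_sup_right.trans hq
        have hne : q.comap (algebraMap B B') ≠ ⊤ :=
          (Ideal.comap_isPrime (algebraMap B B') q).ne_top
        exact ((IsLocalRing.maximalIdeal.isMaximal B).eq_of_le hne hle).symm
      rw [h1, h2]
    obtain ⟨W, hWp, hW1, hW2⟩ :=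
      exists_prime_tensor B C B' (IsLocalRing.maximalIdeal C) q hmB
    haveI := hWp
    let ε : C ⊗[B] B' ≃ₐ[C] C' := Algebra.IsPushout.equiv B C B' C'
    let q' : Ideal C' := W.comap (ε.symm : C' →ₐ[C] C ⊗[B] B').toRingHom
    haveI : q'.IsPrime := Ideal.comap_isPrime _ _
    have hq'q : q'.comap (algebraMap B' C') = q := by
      ext x
      rw [← hW2]
      show ε.symm (algebraMap B' C' x) ∈ W ↔ (1 : C) ⊗ₜ[B] x ∈ W
      rw [Algebra.IsPushout.equiv_symm_algebraMap_right]
    have hCq' : (IsLocalRing.maximalIdeal C).map (algebraMap C C') ≤ q' := by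
      rw [Ideal.map_le_iff_le_comap]
      intro c hc
      show ε.symm (algebraMap C C' c) ∈ W
      rw [Algebra.IsPushout.equiv_symm_algebraMap_left]
      have : c ∈ W.comap
          (Algebra.TensorProduct.includeLeft : C →ₐ[B] C ⊗[B] B').toRingHom := by
        rw [hW1]; exact hc
      exact this
    have hA'q' : (IsLocalRing.maximalIdeal A').map (algebraMap A' C') ≤ q' := by
      rw [Ideal.map_le_iff_le_comap]
      intro a ha
      have h3 : algebraMap A' B' a ∈ q :=
        hq (Ideal.mem_sup_left (Ideal.mem_map_of_mem _ ha))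
      rw [← hq'q] at h3
      show algebraMap A' C' a ∈ q'
      rw [IsScalarTower.algebraMap_apply A' B' C']
      exact h3
    have h4 : Module.Flat A' (LocalizedModule q'.primeCompl N') := hN q' (sup_le hA'q' hCq')
    exact flatAt_of_flatAt_tensor M' q' q hq'q ((htr q').mp h4)

end Main

/-- the statement in the form of the milestone: all comparison data are constructed from the
two pushout squares. -/
theorem main {A B C : Type u} [CommRing A] [IsLocalRing A] [CommRing B] [IsLocalRing B]
    [CommRing C] [IsLocalRing C]
    [Algebra A B] [IsLocalHom (algebraMap A B)] [Algebra B C] [IsLocalHom (algebraMap B C)]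
    [Algebra A C] [IsScalarTower A B C] [Module.Flat B C]
    (M : Type u) [AddCommGroup M] [Module B M] (N : Type u) [AddCommGroup N] [Module C N]
    [Module B N] [IsScalarTower B C N]
    (g : M →ₗ[B] N) (hg : IsBaseChange C g)
    (A' : Type u) [CommRing A'] [IsLocalRing A'] [Algebra A A'] [IsLocalHom (algebraMap A A')]
    (B' M' : Type u) [CommRing B'] [Algebra B B'] [Algebra A' B'] [Algebra A B']
    [IsScalarTower A B B'] [IsScalarTower A A' B']
    [Algebra.IsPushout A B A' B']
    [AddCommGroup M'] [Module B' M'] [Module B M'] [IsScalarTower B B' M'] [Module A' M']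
    [IsScalarTower A' B' M']
    (fB : M →ₗ[B] M') (hfB : IsBaseChange B' fB)
    (C' N' : Type u) [CommRing C'] [Algebra C C'] [Algebra A' C'] [Algebra A C']
    [IsScalarTower A C C'] [IsScalarTower A A' C']
    [Algebra.IsPushout A C A' C']
    [AddCommGroup N'] [Module C' N'] [Module C N'] [IsScalarTower C C' N'] [Module A' N']
    [IsScalarTower A' C' N']
    (fC : N →ₗ[C] N') (hfC : IsBaseChange C' fC) :
    FlatCA.FlatAboveClosedPoints B A' B' M' ↔ FlatCA.FlatAboveClosedPoints C A' C' N' := by
  let fBC' : B →ₐ[A] C' := (IsScalarTower.toAlgHom A C C').comp (IsScalarTower.toAlgHom A B C)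
  let gA'C' : A' →ₐ[A] C' := IsScalarTower.toAlgHom A A' C'
  let φ : B' →ₐ[A] C' := Algebra.pushoutDesc B' fBC' gA'C' (fun _ _ => mul_comm _ _)
  letI algB'C' : Algebra B' C' := φ.toRingHom.toAlgebra
  letI algBC' : Algebra B C' := ((algebraMap C C').comp (algebraMap B C)).toAlgebra
  haveI t1 : IsScalarTower B C C' := IsScalarTower.of_algebraMap_eq (fun x => rfl)
  haveI t2 : IsScalarTower B B' C' := IsScalarTower.of_algebraMap_eq
    (fun x => (Algebra.pushoutDesc_left B' fBC' gA'C' _ x).symm)
  haveI t3 : IsScalarTower A' B' C' := IsScalarTower.of_algebraMap_eq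
    (fun x => (Algebra.pushoutDesc_right B' fBC' gA'C' _ x).symm)
  haveI t4 : IsScalarTower A B' C' := IsScalarTower.of_algebraMap_eq
    (fun x => (φ.commutes x).symm)
  have hpush : Algebra.IsPushout B C B' C' :=
    (Algebra.IsPushout.comp_iff A B A' (S' := B') (T := C) (T' := C')).mp inferInstance
  letI modBN' : Module B N' := Module.compHom N' (algebraMap B C')
  haveI t6 : IsScalarTower B C' N' := ⟨fun b c n => by
    show (b • c) • n = (algebraMap B C' b) • (c • n)
    rw [Algebra.smul_def, mul_smul]⟩
  haveI t7 : IsScalarTower B C N' := ⟨fun b c n => by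
    show (b • c) • n = (algebraMap B C' b) • (c • n)
    rw [← algebraMap_smul C' (b • c) n, ← algebraMap_smul C' c n, Algebra.smul_def, map_mul,
      mul_smul, ← IsScalarTower.algebraMap_apply B C C']⟩
  obtain ⟨e⟩ := nonempty_equiv_tensor (B := B) (C := C) (B' := B') (C' := C') g hg fB hfB fC hfC
  exact main_flat hpush M' N' e

end Groth.Agent.Helper7.FlatACP
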